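import Mathlib.RingTheory.Nilpotent.GeometricallyReduced
import Mathlib.RingTheory.Flat.Basic
import Mathlib.Algebra.CharP.Lemmas
import Mathlib.Algebra.CharP.Algebra
import Mathlib.RingTheory.TensorProduct.Free
import Mathlib.RingTheory.Nilpotent.Basic

/-!
# Geometrically reduced algebras and the Frobenius twist

* `Tw p k`: the field `k`, as a `k`-algebra through the Frobenius.
* `linearIndependent_pow`: if `A ⊗[k] Tw p k` is reduced, `p`-th powers of linearly independent elements of `A`
  are linearly independent.
* `isReduced_of_tw`: then `K ⊗[k] A` is reduced for all field extensions `K/k`.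
* `isGeometricallyReduced_of_tw`.
-/

set_option autoImplicit false
universe u v w

open TensorProduct

namespace K423.FrobRed

/-- The field `k`, as a `k`-algebra through the Frobenius. -/
def Tw (_p : ℕ) (k : Type u) : Type u := k

noncomputable instance (p : ℕ) (k : Type u) [Field k] : Field (Tw p k) := inferInstanceAs (Field k)

noncomputable instance (p : ℕ) (k : Type u) [Field k] [Fact p.Prime] [CharP k p] : Algebra k (Tw p k) :=
  RingHom.toAlgebra (show k →+* Tw p k from frobenius k p)

variable {p : ℕ} {k : Type u} [Field k] [hp : Fact p.Prime] [CharP k p]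

theorem algebraMap_tw (c : k) : algebraMap k (Tw p k) c = (show Tw p k from c) ^ p := rfl

variable {A : Type v} [CommRing A] [Algebra k A]

theorem tmul_pow_tw (a : A) (c : k) :
    (a ⊗ₜ[k] (show Tw p k from c)) ^ p = (c • a ^ p) ⊗ₜ[k] (1 : Tw p k) := by
  rw [Algebra.TensorProduct.tmul_pow, ← algebraMap_tw, Algebra.algebraMap_eq_smul_one, TensorProduct.tmul_smul,
    TensorProduct.smul_tmul']

theorem linearIndependent_pow (h : IsReduced (A ⊗[k] Tw p k)) {ι : Type*} {a : ι → A}
    (ha : LinearIndependent k a) : LinearIndependent k (fun i => a i ^ p) := by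
  rcases subsingleton_or_nontrivial A with hA | hA
  · have : IsEmpty ι := ⟨fun i => ha.ne_zero i (Subsingleton.elim _ _)⟩
    exact linearIndependent_empty_type
  have : CharP (A ⊗[k] Tw p k) p := by
    have : Nontrivial (A ⊗[k] Tw p k) :=
      (Algebra.TensorProduct.includeLeft_injective (R := k) (S := k) (A := A) (B := Tw p k)
        (algebraMap k (Tw p k)).injective).nontrivial
    exact charP_of_injective_algebraMap (algebraMap k (A ⊗[k] Tw p k)).injective p
  rw [linearIndependent_iff']
  intro s g hg i hi
  have h1 : (∑ i ∈ s, (a i) ⊗ₜ[k] (show Tw p k from g i)) ^ p = 0 := by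
    rw [sum_pow_char p]
    simp only [tmul_pow_tw]
    rw [← TensorProduct.sum_tmul, hg, TensorProduct.zero_tmul]
  have h2 : (∑ i ∈ s, (a i) ⊗ₜ[k] (show Tw p k from g i)) = 0 := pow_eq_zero_iff (hp.out.ne_zero) |>.1 h1
  have h3 : LinearIndependent (Tw p k) ((1 : Tw p k) ⊗ₜ[k] a ·) :=
    Module.Flat.linearIndependent_one_tmul ha
  have h4 : ∑ i ∈ s, (show Tw p k from g i) • ((1 : Tw p k) ⊗ₜ[k] a i) = 0 := by
    have := congrArg (TensorProduct.comm k A (Tw p k)) h2
    rw [map_sum, map_zero] at this
    rw [← this]
    refine Finset.sum_congr rfl fun j _ => ?_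
    rw [TensorProduct.comm_tmul, TensorProduct.smul_tmul', smul_eq_mul, mul_one]
  exact (linearIndependent_iff'.1 h3) s (fun i => (show Tw p k from g i)) h4 i hi

theorem isReduced_of_tw (h : IsReduced (A ⊗[k] Tw p k)) (K : Type w) [Field K] [Algebra k K] :
    IsReduced (K ⊗[k] A) := by
  rcases subsingleton_or_nontrivial A with hA | hA
  · have : Subsingleton (K ⊗[k] A) := by
      refine subsingleton_of_forall_eq 0 fun x => ?_
      induction x with
      | zero => rfl
      | tmul x y => rw [Subsingleton.elim y 0, TensorProduct.tmul_zero]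
      | add x y hx hy => rw [hx, hy, add_zero]
    infer_instance
  rw [isReduced_iff_pow_one_lt p hp.out.one_lt]
  intro x hx
  let b := Module.Free.chooseBasis k A
  let B := Algebra.TensorProduct.basis K b
  have h0 : CharP (K ⊗[k] A) p := by
    have : Nontrivial (K ⊗[k] A) :=
      (Algebra.TensorProduct.includeLeft_injective (R := k) (S := k) (A := K) (B := A)
        (algebraMap k A).injective).nontrivial
    exact charP_of_injective_algebraMap (algebraMap k (K ⊗[k] A)).injective p
  have h1 := B.linearCombination_repr x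
  rw [Finsupp.linearCombination_apply, Finsupp.sum] at h1
  have h3 : LinearIndependent K ((1 : K) ⊗ₜ[k] (fun i => b i ^ p) ·) :=
    Module.Flat.linearIndependent_one_tmul (linearIndependent_pow h b.linearIndependent)
  have h4 : ∑ i ∈ (B.repr x).support, (B.repr x i) ^ p • ((1 : K) ⊗ₜ[k] (b i ^ p)) = 0 := by
    rw [← hx]
    conv_rhs => rw [← h1]
    rw [sum_pow_char p]
    refine Finset.sum_congr rfl fun j _ => ?_
    rw [smul_pow, Algebra.TensorProduct.basis_apply, Algebra.TensorProduct.tmul_pow, one_pow]
  have h5 : ∀ i, B.repr x i = 0 := by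
    intro i
    by_contra hi
    have := (linearIndependent_iff'.1 h3) (B.repr x).support (fun i => (B.repr x i) ^ p) h4 i
      (Finsupp.mem_support_iff.2 hi)
    exact hi (pow_eq_zero_iff (hp.out.ne_zero) |>.1 this)
  rw [← B.repr.map_eq_zero_iff]
  ext i
  rw [h5 i]
  rfl

theorem isGeometricallyReduced_of_tw (h : IsReduced (A ⊗[k] Tw p k)) : Algebra.IsGeometricallyReduced k A := by
  rw [Algebra.isGeometricallyReduced_field_iff]
  exact isReduced_of_tw h (AlgebraicClosure k)

end K423.FrobRed
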