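import Groth.Agent.VarietyA.GeomRed
import Groth.Agent.Variety.K423.FrobRed

/-!
# Geometric reducedness and the Frobenius twist of a scheme
-/

set_option autoImplicit false
universe u
open CategoryTheory CategoryTheory.Limits AlgebraicGeometry

attribute [local instance] Curv2.resAlgebra Curv2.stalkAlgebra

namespace K423.GeomRedTw

/-- A `k`-scheme whose base change along the Frobenius of `k` is reduced is geometrically reduced. -/
theorem geometricallyReduced_of_tw (k : Type u) [Field k] (X : Scheme.{u})
    [X.Over (Spec (CommRingCat.of k))] (p : ℕ) [Fact p.Prime] [CharP k p]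
    (h : IsReduced (Curv2.bc k X (K423.FrobRed.Tw p k))) :
    GeometricallyReduced (X ↘ (Spec (CommRingCat.of k))) := by
  rw [Groth.Agent.VarietyA.GeomRed.geometricallyReduced_iff_forall_stalk]
  intro x
  exact K423.FrobRed.isGeometricallyReduced_of_tw
    (Groth.Agent.VarietyA.GeomRed.isReduced_stalk_tensorProduct k X (K423.FrobRed.Tw p k) x)

end K423.GeomRedTw
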