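import Mathlib.Topology.KrullDimension
import Mathlib.Topology.Sober
import Mathlib.Topology.Sets.Closeds

/-!
# The dimension of a closed set and the coheight of points for the specialization order
-/

set_option autoImplicit false
universe u v w

open Topology TopologicalSpace

namespace K423.CoheightDim

variable {T : Type u} [TopologicalSpace T] [PartialOrder T]

/-- The coheight of a point of a closed set is at most the dimension of the set. -/
theorem coheight_le_dim (hle : ∀ x y : T, x ≤ y ↔ x ⤳ y) {C : Set T} (hC : IsClosed C) {z : T}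
    (hz : z ∈ C) : (Order.coheight z : WithBot ℕ∞) ≤ topologicalKrullDim C := by
  rw [Order.coheight_eq_krullDim_Ici, ← Order.krullDim_orderDual]
  have hmem : ∀ w : Set.Ici z, w.1 ∈ C := fun w => ((hle z w.1).1 w.2).mem_closed hC hz
  let φ : (Set.Ici z)ᵒᵈ → IrreducibleCloseds ↥C := fun w =>
    ⟨closure {⟨(OrderDual.ofDual w).1, hmem _⟩}, isIrreducible_singleton.closure, isClosed_closure⟩
  refine Order.krullDim_le_of_strictMono φ ?_
  intro a b hab
  have hlt : (OrderDual.ofDual b).1 < (OrderDual.ofDual a).1 := hab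
  have hsub : ∀ a b : Set.Ici z, (⟨b.1, hmem b⟩ : ↥C) ∈ closure ({⟨a.1, hmem a⟩} : Set ↥C) ↔ a.1 ≤ b.1 := by
    intro a b
    rw [hle, specializes_iff_mem_closure, closure_subtype]
    simp
  refine lt_of_le_of_ne ?_ ?_
  · change closure ({⟨(OrderDual.ofDual a).1, hmem _⟩} : Set ↥C) ⊆
      closure {⟨(OrderDual.ofDual b).1, hmem _⟩}
    refine closure_minimal (Set.singleton_subset_iff.2 ?_) isClosed_closure
    exact (hsub (OrderDual.ofDual b) (OrderDual.ofDual a)).2 hlt.le
  · intro h
    have h1 : closure ({⟨(OrderDual.ofDual a).1, hmem _⟩} : Set ↥C) =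
      closure {⟨(OrderDual.ofDual b).1, hmem _⟩} := congrArg IrreducibleCloseds.carrier h
    have h2 : (⟨(OrderDual.ofDual b).1, hmem _⟩ : ↥C) ∈
        closure ({⟨(OrderDual.ofDual a).1, hmem _⟩} : Set ↥C) := by
      rw [h1]
      exact subset_closure rfl
    exact hlt.not_ge ((hsub (OrderDual.ofDual a) (OrderDual.ofDual b)).1 h2)

/-- A closed set of dimension at least `r` has a point of coheight at least `r`. -/
theorem exists_le_coheight [QuasiSober T] (hle : ∀ x y : T, x ≤ y ↔ x ⤳ y) {C : Set T}
    (hC : IsClosed C) {r : ℕ} (hr : (r : WithBot ℕ∞) ≤ topologicalKrullDim C) :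
    ∃ x ∈ C, (r : ℕ∞) ≤ Order.coheight x := by
  obtain ⟨l, hl⟩ := Order.le_krullDim_iff.1 hr
  have hg : ∀ D : IrreducibleCloseds ↥C, ∃ x : T, closure {x} = Subtype.val '' (D : Set ↥C) := by
    intro D
    have him : IsIrreducible (Subtype.val '' (D : Set ↥C)) :=
      D.isIrreducible.image _ continuous_subtype_val.continuousOn
    have hcl : IsClosed (Subtype.val '' (D : Set ↥C)) :=
      hC.isClosedEmbedding_subtypeVal.isClosedMap _ D.isClosed
    obtain ⟨x, hx⟩ := QuasiSober.sober him hcl
    exact ⟨x, hx⟩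
  choose g hg using hg
  have hmem : ∀ D, g D ∈ C := by
    intro D
    have h1 : g D ∈ closure {g D} := subset_closure rfl
    rw [hg] at h1
    obtain ⟨a, -, ha⟩ := h1
    rw [← ha]
    exact a.2
  have hmono : StrictMono (fun D : (IrreducibleCloseds ↥C)ᵒᵈ => g (OrderDual.ofDual D)) := by
    intro a b hab
    have hlt : OrderDual.ofDual b < OrderDual.ofDual a := hab
    have hss : ((OrderDual.ofDual b : IrreducibleCloseds ↥C) : Set ↥C) ⊂
        ((OrderDual.ofDual a : IrreducibleCloseds ↥C) : Set ↥C) := hlt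
    have key : ∀ D E : IrreducibleCloseds ↥C, g D ≤ g E ↔ (E : Set ↥C) ⊆ D := by
      intro D E
      rw [hle, specializes_iff_closure_subset, hg, hg]
      exact Set.image_subset_image_iff Subtype.val_injective
    refine lt_of_le_not_ge ((key _ _).2 hss.1) fun h => hss.2 ((key _ _).1 h)
  let lr : LTSeries (IrreducibleCloseds ↥C)ᵒᵈ := RelSeries.reverse l
  let l' : LTSeries T := LTSeries.map lr _ hmono
  refine ⟨l'.head, ?_, ?_⟩
  · exact hmem _
  · have h1 : l'.length = r := hl
    rw [← h1]
    exact Order.length_le_coheight_head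

end K423.CoheightDim
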