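import Groth.Agent.CalgC.DimFT
import Mathlib.RingTheory.Ideal.KrullsHeightTheorem
import Mathlib.RingTheory.Flat.FaithfullyFlat.Algebra
import Mathlib.RingTheory.Ideal.GoingDown
import Mathlib.RingTheory.TensorProduct.MvPolynomial
import Mathlib.RingTheory.Ideal.HasGoingUp

/-!
# Dimension of intersections in affine space

* `ringKrullDim_add_le`: for primes `p`, `q` of `R = k[x_1, …, x_n]` and `M` minimal over `p + q`,
  `dim R/p + dim R/q ≤ dim R/M + n`.
-/

set_option autoImplicit false
universe u v w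

open MvPolynomial

namespace K423.DimInter

/-- The kernel of evaluation at a point is generated by the `X i - a i`. -/
theorem mem_span_of_aeval_eq_zero {A : Type u} [CommRing A] {σ : Type v} (a : σ → A)
    (f : MvPolynomial σ A) (hf : aeval a f = 0) :
    f ∈ Ideal.span (Set.range fun i => (X i - C (a i) : MvPolynomial σ A)) := by
  rw [← Ideal.Quotient.eq_zero_iff_mem]
  set J := Ideal.span (Set.range fun i => (X i - C (a i) : MvPolynomial σ A))
  have h : (Ideal.Quotient.mkₐ A J) = (Algebra.ofId A (MvPolynomial σ A ⧸ J)).comp (aeval a) := by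
    refine MvPolynomial.algHom_ext fun i => ?_
    rw [AlgHom.comp_apply, aeval_X]
    change Ideal.Quotient.mk J (X i) = Ideal.Quotient.mk J (C (a i))
    rw [Ideal.Quotient.eq]
    exact Ideal.subset_span ⟨i, rfl⟩
  have h1 := congrArg (fun g : MvPolynomial σ A →ₐ[A] (MvPolynomial σ A ⧸ J) => g f) h
  change Ideal.Quotient.mk J f = Algebra.ofId A _ (aeval a f) at h1
  rw [h1, hf, map_zero]

/-- For `R → S` with going down, `P` minimal over `pS` lies over `p`, and has the height of `p`. -/
theorem height_eq_of_minimal {R : Type u} {S : Type v} [CommRing R] [CommRing S] [Algebra R S]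
    [IsNoetherianRing R] [IsNoetherianRing S] [Algebra.HasGoingDown R S] (p : Ideal R) [p.IsPrime] (P : Ideal S)
    (hP : P ∈ (p.map (algebraMap R S)).minimalPrimes) : P.height = p.height := by
  have : P.IsPrime := hP.1.1
  have hle : p ≤ P.under R := Ideal.map_le_iff_le_comap.1 hP.1.2
  have hover : P.LiesOver p := by
    refine ⟨le_antisymm hle ?_⟩
    obtain ⟨Q, hQP, hQ, hQo⟩ := Ideal.exists_ideal_le_liesOver_of_le (R := R) (S := S) P hle
    have h1 : P ≤ Q := hP.2 ⟨hQ, by rw [hQo.over]; exact Ideal.map_comap_le⟩ hQP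
    have h2 : P = Q := le_antisymm h1 hQP
    subst h2
    exact hQo.over.ge
  rw [Ideal.height_eq_height_add_of_liesOver_of_hasGoingDown p P]
  have h3 : (P.map (Ideal.Quotient.mk (p.map (algebraMap R S)))).height = 0 := by
    have h4 : (P.map (Ideal.Quotient.mk (p.map (algebraMap R S)))).IsPrime :=
      Ideal.map_isPrime_of_surjective Ideal.Quotient.mk_surjective (by rw [Ideal.mk_ker]; exact hP.1.2)
    rw [Ideal.height_eq_zero_iff, minimalPrimes_eq_minimals]
    refine ⟨h4, fun Q hQ hQP => ?_⟩
    have h5 : P ≤ Q.comap (Ideal.Quotient.mk (p.map (algebraMap R S))) := by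
      refine hP.2 ⟨Ideal.IsPrime.comap _ (hK := hQ), ?_⟩ ?_
      · intro x hx
        rw [Ideal.mem_comap, Ideal.Quotient.eq_zero_iff_mem.mpr hx]
        exact zero_mem _
      · intro x hx
        have h6 := hQP hx
        obtain ⟨y, hy, hxy⟩ := (Ideal.mem_map_iff_of_surjective _ Ideal.Quotient.mk_surjective).1 h6
        have h7 : x - y ∈ p.map (algebraMap R S) := by
          rw [← Ideal.Quotient.eq]
          exact hxy.symm
        have h8 := hP.1.2 h7
        simpa using add_mem h8 hy
    exact Ideal.map_le_iff_le_comap.2 h5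
  rw [h3, add_zero]

/-- comap of map along a surjection with kernel contained in the ideal. -/
theorem comap_map_mk {R : Type u} [CommRing R] {q M : Ideal R} (h : q ≤ M) :
    (M.map (Ideal.Quotient.mk q)).comap (Ideal.Quotient.mk q) = M := by
  rw [Ideal.comap_map_of_surjective _ Ideal.Quotient.mk_surjective]
  refine le_antisymm (sup_le le_rfl ?_) le_sup_left
  intro x hx
  have : Ideal.Quotient.mk q x = 0 := by simpa using hx
  exact h (Ideal.Quotient.eq_zero_iff_mem.1 this)

/-- The abstract reduction to the diagonal. -/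
theorem dim_add_dim_le_aux (k : Type u) [Field k] {R C A : Type v} [CommRing R] [CommRing C]
    [CommRing A] [IsDomain R] [IsDomain C] [IsDomain A] [Algebra k R] [Algebra k C] [Algebra k A]
    [Algebra.FiniteType k R] [Algebra.FiniteType k C] [Algebra R C] [Module.Flat R C]
    (φ : C →+* A)
    (hφR : Function.Surjective (φ.comp (algebraMap R C)))
    (n : ℕ) {σ : Type w} [Finite σ] (hn : Nat.card σ = n) (g : σ → C) (hg : RingHom.ker φ = Ideal.span (Set.range g))
    (hCR : ringKrullDim C = ringKrullDim A + ringKrullDim R)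
    (p M : Ideal R) [hp : p.IsPrime]
    (hM : M ∈ (p ⊔ RingHom.ker (φ.comp (algebraMap R C))).minimalPrimes) :
    ringKrullDim (R ⧸ p) + ringKrullDim A ≤ ringKrullDim (R ⧸ M) + n := by
  have hMp : M.IsPrime := hM.1.1
  have hpM : p ≤ M := le_sup_left.trans hM.1.2
  have hqM : RingHom.ker (φ.comp (algebraMap R C)) ≤ M := le_sup_right.trans hM.1.2
  have : IsNoetherianRing R := Algebra.FiniteType.isNoetherianRing k R
  have : IsNoetherianRing C := Algebra.FiniteType.isNoetherianRing k C
  have hMq : (M.map (φ.comp (algebraMap R C))).IsPrime :=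
    Ideal.map_isPrime_of_surjective hφR hqM
  have hMc : (M.map (φ.comp (algebraMap R C))).comap (φ.comp (algebraMap R C)) = M := by
    rw [Ideal.comap_map_of_surjective _ hφR]
    refine le_antisymm (sup_le le_rfl hqM) le_sup_left
  let N : Ideal C := (M.map (φ.comp (algebraMap R C))).comap φ
  have hN : N.IsPrime := Ideal.IsPrime.comap φ
  have hNc : N.comap (algebraMap R C) = M := by
    rw [Ideal.comap_comap, hMc]
  have hpN : p.map (algebraMap R C) ≤ N :=
    Ideal.map_le_iff_le_comap.2 (hNc ▸ hpM)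
  obtain ⟨P, hP, hPN⟩ := Ideal.exists_minimalPrimes_le hpN
  have hPp : P.IsPrime := hP.1.1
  have hPht : P.height = p.height := height_eq_of_minimal p P hP
  have h1 := Groth.Agent.CalgC.DimFT.height_add_ringKrullDim_quotient k C P
  have h2 := Groth.Agent.CalgC.DimFT.height_add_ringKrullDim_quotient k R p
  -- the height of `N / P`
  let N' : Ideal (C ⧸ P) := N.map (Ideal.Quotient.mk P)
  have hN'c : N'.comap (Ideal.Quotient.mk P) = N := comap_map_mk hPN
  have hN'p : N'.IsPrime :=
    Ideal.map_isPrime_of_surjective Ideal.Quotient.mk_surjective (by rw [Ideal.mk_ker]; exact hPN)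
  have hN'min : N' ∈ (Ideal.span (Set.range fun i => Ideal.Quotient.mk P (g i))).minimalPrimes := by
    refine ⟨⟨hN'p, ?_⟩, ?_⟩
    · rw [Ideal.span_le]
      rintro _ ⟨i, rfl⟩
      refine Ideal.mem_map_of_mem _ ?_
      change φ (g i) ∈ M.map (φ.comp (algebraMap R C))
      have : g i ∈ RingHom.ker φ := hg ▸ Ideal.subset_span ⟨i, rfl⟩
      rw [(RingHom.mem_ker).1 this]
      exact zero_mem _
    · rintro Q ⟨hQ, hQs⟩ hQN
      have hQc : (Q.comap (Ideal.Quotient.mk P)).IsPrime := Ideal.IsPrime.comap _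
      have hkQ : RingHom.ker φ ≤ Q.comap (Ideal.Quotient.mk P) := by
        rw [hg, Ideal.span_le]
        rintro _ ⟨i, rfl⟩
        exact hQs (Ideal.subset_span ⟨i, rfl⟩)
      have hPQ : P ≤ Q.comap (Ideal.Quotient.mk P) := by
        intro x hx
        rw [Ideal.mem_comap, Ideal.Quotient.eq_zero_iff_mem.mpr hx]
        exact Q.zero_mem
      have hQN' : Q.comap (Ideal.Quotient.mk P) ≤ N := hN'c ▸ Ideal.comap_mono hQN
      have hQM : (Q.comap (Ideal.Quotient.mk P)).comap (algebraMap R C) ≤ M :=
        hNc ▸ Ideal.comap_mono hQN'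
      have hMQ : M ≤ (Q.comap (Ideal.Quotient.mk P)).comap (algebraMap R C) := by
        refine hM.2 ⟨Ideal.IsPrime.comap _, sup_le ?_ ?_⟩ hQM
        · exact (Ideal.map_le_iff_le_comap.1 hP.1.2).trans (Ideal.comap_mono hPQ)
        · intro x hx
          exact hkQ (by simpa [RingHom.mem_ker] using hx)
      have hNQ : N ≤ Q.comap (Ideal.Quotient.mk P) := by
        intro x hx
        obtain ⟨y, hy, hyx⟩ := (Ideal.mem_map_iff_of_surjective _ hφR).1 (show φ x ∈ _ from hx)
        have h5 : x - algebraMap R C y ∈ Q.comap (Ideal.Quotient.mk P) := by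
          refine hkQ ?_
          rw [RingHom.mem_ker, map_sub, ← hyx]
          simp
        have h6 := add_mem h5 (hMQ hy)
        simpa using h6
      exact Ideal.map_le_iff_le_comap.2 hNQ
  have hht : N'.height ≤ n := by
    refine (Ideal.height_le_card_of_mem_minimalPrimes_span (Set.finite_range _) hN'min).trans ?_
    rw [← hn, ← Set.image_univ, Nat.cast_le]
    exact (Set.ncard_image_le Set.finite_univ).trans (by rw [Set.ncard_univ])
  have h3 := Groth.Agent.CalgC.DimFT.height_add_ringKrullDim_quotient k (C ⧸ P) N'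
  have h4 : ringKrullDim ((C ⧸ P) ⧸ N') = ringKrullDim (R ⧸ M) := by
    rw [ringKrullDim_eq_of_ringEquiv (DoubleQuot.quotQuotEquivQuotOfLE hPN)]
    have hsurj : Function.Surjective ((Ideal.Quotient.mk N).comp (algebraMap R C)) := by
      intro x
      obtain ⟨c, rfl⟩ := Ideal.Quotient.mk_surjective x
      obtain ⟨r, hr⟩ := hφR (φ c)
      refine ⟨r, ?_⟩
      rw [RingHom.comp_apply, Ideal.Quotient.eq]
      change φ (algebraMap R C r - c) ∈ M.map (φ.comp (algebraMap R C))
      rw [map_sub, ← hr]
      simp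
    have hker : RingHom.ker ((Ideal.Quotient.mk N).comp (algebraMap R C)) = M := by
      rw [← hNc]
      ext x
      rw [RingHom.mem_ker, RingHom.comp_apply, Ideal.Quotient.eq_zero_iff_mem,
        Ideal.mem_comap (f := algebraMap R C)]
    rw [← ringKrullDim_eq_of_ringEquiv (RingHom.quotientKerEquivOfSurjective hsurj)]
    exact ringKrullDim_eq_of_ringEquiv (Ideal.quotEquivOfEq hker)
  obtain ⟨a, ha, -⟩ := Groth.Agent.CalgC.DimFT.exists_dim k (C ⧸ P)
  obtain ⟨b, hb, -⟩ := Groth.Agent.CalgC.DimFT.exists_dim k (R ⧸ p)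
  obtain ⟨c, hc, -⟩ := Groth.Agent.CalgC.DimFT.exists_dim k R
  obtain ⟨d, hd, -⟩ := Groth.Agent.CalgC.DimFT.exists_dim k (R ⧸ M)
  obtain ⟨e, he⟩ : ∃ e : ℕ, ringKrullDim A = e := by
    have : Algebra.FiniteType k (R ⧸ RingHom.ker (φ.comp (algebraMap R C))) := inferInstance
    have hK : (RingHom.ker (φ.comp (algebraMap R C))).IsPrime := RingHom.ker_isPrime _
    obtain ⟨e, he, -⟩ := Groth.Agent.CalgC.DimFT.exists_dim k
      (R ⧸ RingHom.ker (φ.comp (algebraMap R C)))
    exact ⟨e, by rw [← he, ringKrullDim_eq_of_ringEquiv (RingHom.quotientKerEquivOfSurjective hφR)]⟩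
  obtain ⟨h, hh⟩ := ENat.ne_top_iff_exists.mp (Ideal.height_ne_top_of_isPrime (I := p))
  obtain ⟨h', hh'⟩ := ENat.ne_top_iff_exists.mp (Ideal.height_ne_top_of_isPrime (I := N'))
  rw [hPht, ← hh, ha, hCR, hc, he] at h1
  rw [← hh, hb, hc] at h2
  rw [h4, hd, ha, ← hh'] at h3
  rw [← hh'] at hht
  rw [hb, he, hd]
  have e1 : h + a = e + c := by exact_mod_cast h1
  have e2 : h + b = c := by exact_mod_cast h2
  have e3 : h' + d = a := by exact_mod_cast h3
  have e4 : h' ≤ n := by exact_mod_cast hht
  have e5 : b + e ≤ d + n := by omega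
  exact_mod_cast e5

section

attribute [local instance] MvPolynomial.algebraMvPolynomial

/-- The case of a surjection onto a domain. -/
theorem ringKrullDim_add_le_of_surjective {k : Type u} [Field k] {σ : Type v} [Finite σ]
    {A : Type (max u v)} [CommRing A] [IsDomain A] [Algebra k A] [Algebra.FiniteType k A]
    (π : MvPolynomial σ k →ₐ[k] A) (hπ : Function.Surjective π)
    (p M : Ideal (MvPolynomial σ k)) [hp : p.IsPrime]
    (hM : M ∈ (p ⊔ RingHom.ker (π : MvPolynomial σ k →+* A)).minimalPrimes) :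
    ringKrullDim (MvPolynomial σ k ⧸ p) + ringKrullDim A ≤
      ringKrullDim (MvPolynomial σ k ⧸ M) + Nat.card σ := by
  let a : σ → A := fun i => π (X i)
  have hφ : ∀ f : MvPolynomial σ k, (aeval a : MvPolynomial σ A →ₐ[A] A)
      (algebraMap _ (MvPolynomial σ A) f) = π f := by
    intro f
    have h : ((aeval a : MvPolynomial σ A →ₐ[A] A).restrictScalars k).comp
        (MvPolynomial.mapAlgHom (Algebra.ofId k A)) = π := by
      refine MvPolynomial.algHom_ext fun i => ?_
      simp [a]
    exact congrArg (fun g : MvPolynomial σ k →ₐ[k] A => g f) h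
  have hcomp : ((aeval a : MvPolynomial σ A →ₐ[A] A) : MvPolynomial σ A →+* A).comp
      (algebraMap (MvPolynomial σ k) (MvPolynomial σ A)) = (π : MvPolynomial σ k →+* A) :=
    RingHom.ext hφ
  have hft : Algebra.FiniteType k (MvPolynomial σ A) :=
    Algebra.FiniteType.trans (S := A) inferInstance inferInstance
  have hflat : Module.Flat (MvPolynomial σ k) (MvPolynomial σ A) :=
    Module.Flat.isBaseChange k (MvPolynomial σ k) A (MvPolynomial σ A)
      (Algebra.IsPushout.out (R := k) (S := MvPolynomial σ k) (R' := A) (S' := MvPolynomial σ A))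
  have h3 : ringKrullDim (MvPolynomial σ A) = ringKrullDim A + ringKrullDim (MvPolynomial σ k) := by
    have : IsNoetherianRing A := Algebra.FiniteType.isNoetherianRing k A
    rw [MvPolynomial.ringKrullDim_of_isNoetherianRing, MvPolynomial.ringKrullDim_of_isNoetherianRing,
      ringKrullDim_eq_zero_of_field, zero_add]
  refine dim_add_dim_le_aux k (C := MvPolynomial σ A) (A := A) 
    ((aeval a : MvPolynomial σ A →ₐ[A] A) : MvPolynomial σ A →+* A) ?_ (Nat.card σ) rfl
    (fun i => X i - C (a i)) ?_ h3 p M ?_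
  · rw [hcomp]
    exact hπ
  · refine le_antisymm (fun f hf => mem_span_of_aeval_eq_zero a f hf) ?_
    rw [Ideal.span_le]
    rintro _ ⟨i, rfl⟩
    simp [RingHom.mem_ker]
  · rwa [hcomp]

end

/-- For primes `p`, `q` of a polynomial ring in `n` variables over a field, and `M` minimal over
`p + q`, `dim R/p + dim R/q ≤ dim R/M + n`. -/
theorem ringKrullDim_add_le {k : Type u} [Field k] {σ : Type v} [Finite σ]
    (p q M : Ideal (MvPolynomial σ k)) [hp : p.IsPrime] [hq : q.IsPrime]
    (hM : M ∈ (p ⊔ q).minimalPrimes) :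
    ringKrullDim (MvPolynomial σ k ⧸ p) + ringKrullDim (MvPolynomial σ k ⧸ q) ≤
      ringKrullDim (MvPolynomial σ k ⧸ M) + Nat.card σ := by
  refine ringKrullDim_add_le_of_surjective (Ideal.Quotient.mkₐ k q) Ideal.Quotient.mk_surjective p M ?_
  have : RingHom.ker ((Ideal.Quotient.mkₐ k q : MvPolynomial σ k →ₐ[k] MvPolynomial σ k ⧸ q) :
      MvPolynomial σ k →+* MvPolynomial σ k ⧸ q) = q := Ideal.mk_ker
  rwa [this]

end K423.DimInter
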