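import Mathlib.Topology.KrullDimension
import Mathlib.RingTheory.Spectrum.Prime.Topology
import Mathlib.RingTheory.KrullDimension.Basic
import Mathlib.Topology.Sober
import Mathlib.RingTheory.Spectrum.Prime.Noetherian

/-!
# Irreducible components of closed subsets and the dimension of closures of points
-/

set_option autoImplicit false
universe u v w

open Topology

namespace K423.InterTop

/-- An irreducible component of a closed subspace has a generic point in the ambient space. -/
theorem exists_generic {T : Type u} [TopologicalSpace T] [QuasiSober T] {C : Set T} (hC : IsClosed C)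
    {Z : Set ↥C} (hZ : Z ∈ irreducibleComponents ↥C) :
    ∃ z ∈ C, closure {z} = Subtype.val '' Z ∧ ∀ w ∈ C, w ⤳ z → closure {w} = closure {z} := by
  have hZc : IsClosed Z := isClosed_of_mem_irreducibleComponents Z hZ
  have hZi : IsIrreducible Z := hZ.1
  have him : IsIrreducible (Subtype.val '' Z) := hZi.image _ continuous_subtype_val.continuousOn
  have hcl : IsClosed (Subtype.val '' Z) := hC.isClosedEmbedding_subtypeVal.isClosedMap _ hZc
  obtain ⟨z, hz⟩ := QuasiSober.sober him hcl
  have hzZ : z ∈ Subtype.val '' Z := hz.mem
  have hzC : z ∈ C := by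
    obtain ⟨a, _, rfl⟩ := hzZ
    exact a.2
  refine ⟨z, hzC, hz, fun w hw hwz => ?_⟩
  have h1 : closure {z} ⊆ closure {w} := (specializes_iff_closure_subset).1 hwz
  refine le_antisymm ?_ h1
  have h2 : IsIrreducible (closure ({⟨w, hw⟩} : Set ↥C)) := isIrreducible_singleton.closure
  have h3 : Z ≤ closure ({⟨w, hw⟩} : Set ↥C) := by
    intro a ha
    rw [closure_subtype]
    simp only [Set.image_singleton]
    exact h1 (hz ▸ ⟨a, ha, rfl⟩)
  have h4 := hZ.2 h2 h3
  have h5 : w ∈ closure {z} := by
    rw [hz]
    exact ⟨⟨w, hw⟩, h4 (subset_closure rfl), rfl⟩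
  exact closure_minimal (Set.singleton_subset_iff.2 h5) isClosed_closure

/-- Dimension of the image of a subset of a subspace. -/
theorem dim_image {T : Type u} [TopologicalSpace T] {C : Set T} (Z : Set ↥C) :
    topologicalKrullDim ↥Z = topologicalKrullDim ↥(Subtype.val '' Z) :=
  (IsEmbedding.subtypeVal.homeomorphImage Z).isHomeomorph.topologicalKrullDim_eq

/-- The dimension of the closure of a point of a spectrum. -/
theorem dim_closure_primeSpectrum {R : Type u} [CommRing R] (p : PrimeSpectrum R) :
    topologicalKrullDim ↥(closure {p}) = ringKrullDim (R ⧸ p.asIdeal) := by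
  have hs : Function.Surjective (Ideal.Quotient.mk p.asIdeal) := Ideal.Quotient.mk_surjective
  have h1 := PrimeSpectrum.isClosedEmbedding_comap_of_surjective _ (Ideal.Quotient.mk p.asIdeal) hs
  have h2 : closure {p} = Set.range (PrimeSpectrum.comap (Ideal.Quotient.mk p.asIdeal)) := by
    rw [range_comap_of_surjective _ _ hs, Ideal.mk_ker,
      PrimeSpectrum.closure_singleton]
  rw [h2, ← h1.isEmbedding.toHomeomorph.isHomeomorph.topologicalKrullDim_eq,
    PrimeSpectrum.topologicalKrullDim_eq_ringKrullDim]

/-- The dimension of the closure of a point, through a homeomorphism. -/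
theorem dim_closure_homeo {T : Type u} {T' : Type v} [TopologicalSpace T] [TopologicalSpace T']
    (e : T ≃ₜ T') (t : T) :
    topologicalKrullDim ↥(closure {t}) = topologicalKrullDim ↥(closure {e t}) := by
  have h : closure {e t} = e '' (closure {t}) := by
    rw [e.image_closure, Set.image_singleton]
  rw [h]
  exact (e.image (closure {t})).isHomeomorph.topologicalKrullDim_eq

/-- A point of a closed set is a specialization of the generic point of a component. -/
theorem exists_component {T : Type u} [TopologicalSpace T] [QuasiSober T] {C : Set T} (hC : IsClosed C)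
    {z : T} (hz : z ∈ C) :
    ∃ x ∈ C, x ⤳ z ∧ ∃ Z ∈ irreducibleComponents ↥C, closure {x} = Subtype.val '' Z := by
  obtain ⟨x, hx, hxZ, -⟩ := exists_generic hC
    (irreducibleComponent_mem_irreducibleComponents (⟨z, hz⟩ : ↥C))
  refine ⟨x, hx, ?_, _, irreducibleComponent_mem_irreducibleComponents _, hxZ⟩
  rw [specializes_iff_mem_closure, hxZ]
  exact ⟨⟨z, hz⟩, mem_irreducibleComponent, rfl⟩

end K423.InterTop
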