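import Groth.Agent.Variety.K423.DimInter
import Groth.Agent.Variety.K423.InterTop

/-!
# Components of intersections in affine space
-/

set_option autoImplicit false
universe u v w

open Topology

namespace K423.InterAff

open K423.InterTop K423.DimInter

/-- Each irreducible component of the intersection of two closed subsets of affine `n`-space which
are equidimensional of dimensions `r` and `s` has dimension at least `r + s - n`. -/
theorem dim_component_inter {k : Type u} [Field k] {σ : Type v} [Finite σ] {T : Type w}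
    [TopologicalSpace T] (e : T ≃ₜ PrimeSpectrum (MvPolynomial σ k)) (r s : ℕ) (X Y : Set T)
    (hX : IsClosed X) (hY : IsClosed Y)
    (hXr : ∀ Z ∈ irreducibleComponents X, topologicalKrullDim Z = r)
    (hYs : ∀ Z ∈ irreducibleComponents Y, topologicalKrullDim Z = s)
    (Z : Set ↥(X ∩ Y)) (hZ : Z ∈ irreducibleComponents ↥(X ∩ Y)) :
    ((r + s : ℕ) : WithBot ℕ∞) ≤ topologicalKrullDim Z + (Nat.card σ : WithBot ℕ∞) := by
  have : QuasiSober T := e.isClosedEmbedding.quasiSober
  obtain ⟨z, ⟨hzX, hzY⟩, hz, hmax⟩ := exists_generic (hX.inter hY) hZ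
  obtain ⟨x, hxX, hxz, X', hX', hxX'⟩ := exists_component hX hzX
  obtain ⟨y, hyY, hyz, Y', hY', hyY'⟩ := exists_component hY hzY
  have hdx : ringKrullDim (MvPolynomial σ k ⧸ (e x).asIdeal) = r := by
    rw [← dim_closure_primeSpectrum, ← dim_closure_homeo, hxX', ← dim_image, hXr X' hX']
  have hdy : ringKrullDim (MvPolynomial σ k ⧸ (e y).asIdeal) = s := by
    rw [← dim_closure_primeSpectrum, ← dim_closure_homeo, hyY', ← dim_image, hYs Y' hY']
  have hdz : ringKrullDim (MvPolynomial σ k ⧸ (e z).asIdeal) = topologicalKrullDim Z := by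
    rw [← dim_closure_primeSpectrum, ← dim_closure_homeo, hz, ← dim_image]
  have hxz' : (e x).asIdeal ≤ (e z).asIdeal :=
    (PrimeSpectrum.le_iff_specializes _ _).2 (hxz.map e.continuous)
  have hyz' : (e y).asIdeal ≤ (e z).asIdeal :=
    (PrimeSpectrum.le_iff_specializes _ _).2 (hyz.map e.continuous)
  have hM : (e z).asIdeal ∈ ((e x).asIdeal ⊔ (e y).asIdeal).minimalPrimes := by
    refine ⟨⟨(e z).2, sup_le hxz' hyz'⟩, fun Q ⟨hQ, hQp⟩ hQM => ?_⟩
    let w : T := e.symm ⟨Q, hQ⟩
    have hw : e w = ⟨Q, hQ⟩ := e.apply_symm_apply _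
    have hxw : x ⤳ w := by
      rw [← e.isInducing.specializes_iff, hw, ← PrimeSpectrum.le_iff_specializes]
      exact le_sup_left.trans hQp
    have hyw : y ⤳ w := by
      rw [← e.isInducing.specializes_iff, hw, ← PrimeSpectrum.le_iff_specializes]
      exact le_sup_right.trans hQp
    have hwz : w ⤳ z := by
      rw [← e.isInducing.specializes_iff, hw, ← PrimeSpectrum.le_iff_specializes]
      exact hQM
    have h1 := hmax w ⟨hxw.mem_closed hX hxX, hyw.mem_closed hY hyY⟩ hwz
    have h2 : z ⤳ w := by
      rw [specializes_iff_closure_subset, h1]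
    rw [← e.isInducing.specializes_iff, hw, ← PrimeSpectrum.le_iff_specializes] at h2
    exact h2
  have h := ringKrullDim_add_le (e x).asIdeal (e y).asIdeal (e z).asIdeal hM
  rw [hdx, hdy, hdz] at h
  exact_mod_cast h

end K423.InterAff
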