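import Groth.Agent.Variety.K423.ProjChain
import Mathlib.AlgebraicGeometry.ProjectiveSpectrum.Basic
import Mathlib.AlgebraicGeometry.Scheme

/-!
# Intersections in projective space
-/

set_option autoImplicit false
universe u v w

open Topology MvPolynomial HomogeneousIdeal

namespace K423.InterProj

attribute [local instance] MvPolynomial.gradedAlgebra

open K423.ProjChain K423.CoheightDim

variable {k : Type u} [Field k] {σ : Type v} [Finite σ]

omit [Finite σ] in
theorem le_iff_specializes (x y : ProjectiveSpectrum (homogeneousSubmodule σ k)) :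
    x ≤ y ↔ x ⤳ y := by
  rw [ProjectiveSpectrum.le_iff_mem_closure, specializes_iff_mem_closure]

/-- Two closed subsets of projective `n`-space of dimensions `r`, `s` with `r + s ≥ n` meet, in a set
of dimension at least `r + s - n`. -/
theorem inter_nonempty_and_dim (n r s : ℕ) (hn : Nat.card σ = n + 1)
    [QuasiSober (ProjectiveSpectrum (homogeneousSubmodule σ k))]
    (X Y : Set (ProjectiveSpectrum (homogeneousSubmodule σ k)))
    (hX : IsClosed X) (hY : IsClosed Y)
    (hXr : topologicalKrullDim X = r) (hYs : topologicalKrullDim Y = s) (hrs : n ≤ r + s) :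
    (X ∩ Y).Nonempty ∧
      ((r + s : ℕ) : WithBot ℕ∞) ≤ topologicalKrullDim ↥(X ∩ Y) + (n : WithBot ℕ∞) := by
  obtain ⟨x, hx, hxr⟩ := exists_le_coheight le_iff_specializes hX hXr.ge
  obtain ⟨y, hy, hys⟩ := exists_le_coheight le_iff_specializes hY hYs.ge
  have hp := x.isPrime
  have hq := y.isPrime
  set p := x.asHomogeneousIdeal.toIdeal with hpdef
  set q := y.asHomogeneousIdeal.toIdeal with hqdef
  have hdx : ((r + 1 : ℕ) : WithBot ℕ∞) ≤ ringKrullDim (MvPolynomial σ k ⧸ p) := by
    refine le_trans ?_ (coheight_add_one_le x)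
    have h : ((r + 1 : ℕ) : ℕ∞) ≤ Order.coheight x + 1 := by
      push_cast
      exact add_le_add hxr le_rfl
    exact_mod_cast h
  have hdy : ((s + 1 : ℕ) : WithBot ℕ∞) ≤ ringKrullDim (MvPolynomial σ k ⧸ q) := by
    refine le_trans ?_ (coheight_add_one_le y)
    have h : ((s + 1 : ℕ) : ℕ∞) ≤ Order.coheight y + 1 := by
      push_cast
      exact add_le_add hys le_rfl
    exact_mod_cast h
  have hle : p ⊔ q ≤ (HomogeneousIdeal.irrelevant (homogeneousSubmodule σ k)).toIdeal :=
    sup_le (le_irrelevant x.asHomogeneousIdeal.isHomogeneous hp.ne_top)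
      (le_irrelevant y.asHomogeneousIdeal.isHomogeneous hq.ne_top)
  obtain ⟨M, hM, hMle⟩ := Ideal.exists_minimalPrimes_le hle
  have hMp : M.IsPrime := hM.1.1
  have hMh : M.IsHomogeneous (homogeneousSubmodule σ k) :=
    isHomogeneous_of_minimal
      (Ideal.IsHomogeneous.sup x.asHomogeneousIdeal.isHomogeneous y.asHomogeneousIdeal.isHomogeneous) hM
  have hkey := K423.DimInter.ringKrullDim_add_le p q M hM
  obtain ⟨a, ha, -⟩ := Groth.Agent.CalgC.DimFT.exists_dim k (MvPolynomial σ k ⧸ p)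
  obtain ⟨b, hb, -⟩ := Groth.Agent.CalgC.DimFT.exists_dim k (MvPolynomial σ k ⧸ q)
  obtain ⟨c, hc, -⟩ := Groth.Agent.CalgC.DimFT.exists_dim k (MvPolynomial σ k ⧸ M)
  rw [ha] at hdx hkey
  rw [hb] at hdy hkey
  rw [hc, hn] at hkey
  have e1 : r + 1 ≤ a := by exact_mod_cast hdx
  have e2 : s + 1 ≤ b := by exact_mod_cast hdy
  have e3 : a + b ≤ c + (n + 1) := by exact_mod_cast hkey
  obtain ⟨d, rfl⟩ : ∃ d, c = d + 1 := ⟨c - 1, by omega⟩
  have hd1 : (1 : WithBot ℕ∞) ≤ ringKrullDim (MvPolynomial σ k ⧸ M) := by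
    rw [hc]
    have : 1 ≤ d + 1 := by omega
    exact_mod_cast this
  let z : ProjectiveSpectrum (homogeneousSubmodule σ k) := mkPt M hMp hMh hd1
  have hzd : (d : ℕ∞) ≤ Order.coheight z := le_coheight d z hc.ge
  have hxz : x ≤ z := show p ≤ M from le_sup_left.trans hM.1.2
  have hyz : y ≤ z := show q ≤ M from le_sup_right.trans hM.1.2
  have hzX : z ∈ X := ((le_iff_specializes x z).1 hxz).mem_closed hX hx
  have hzY : z ∈ Y := ((le_iff_specializes y z).1 hyz).mem_closed hY hy
  refine ⟨⟨z, hzX, hzY⟩, ?_⟩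
  have h1 := coheight_le_dim le_iff_specializes (hX.inter hY) (z := z) ⟨hzX, hzY⟩
  have h2 : (d : WithBot ℕ∞) ≤ topologicalKrullDim ↥(X ∩ Y) := le_trans (by exact_mod_cast hzd) h1
  have h3 : ((r + s : ℕ) : WithBot ℕ∞) ≤ (d : WithBot ℕ∞) + (n : WithBot ℕ∞) := by
    have : r + s ≤ d + n := by omega
    exact_mod_cast this
  exact h3.trans (add_le_add h2 le_rfl)

end K423.InterProj
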