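import Groth.Agent.Variety.K423.DimInter
import Groth.Agent.Variety.K423.CoheightDim
import Mathlib.AlgebraicGeometry.ProjectiveSpectrum.Topology
import Mathlib.RingTheory.MvPolynomial.Homogeneous
import Mathlib.RingTheory.GradedAlgebra.Radical
import Mathlib.RingTheory.KrullDimension.NonZeroDivisors

/-!
# Chains of homogeneous primes of a polynomial ring

For a point `z` of `Proj k[T_0, …, T_n]`, `dim S / P_z = coheight z + 1`.
-/

set_option autoImplicit false
universe u v w

open Topology MvPolynomial HomogeneousIdeal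

namespace K423.ProjChain

attribute [local instance] MvPolynomial.gradedAlgebra

variable {k : Type u} [Field k] {σ : Type v}

theorem mem_irrelevant_iff' (f : MvPolynomial σ k) :
    f ∈ (HomogeneousIdeal.irrelevant (homogeneousSubmodule σ k)).toIdeal ↔ constantCoeff f = 0 := by
  change f ∈ HomogeneousIdeal.irrelevant (homogeneousSubmodule σ k) ↔ _
  rw [HomogeneousIdeal.mem_irrelevant_iff, GradedRing.proj_apply]
  have h : (DirectSum.decompose (homogeneousSubmodule σ k) f 0 : MvPolynomial σ k) =
      homogeneousComponent 0 f := MvPolynomial.decomposition.decompose'_apply f 0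
  rw [h, homogeneousComponent_zero, constantCoeff_eq]
  exact MvPolynomial.C_eq_zero

theorem irrelevant_eq_ker : (HomogeneousIdeal.irrelevant (homogeneousSubmodule σ k)).toIdeal =
    RingHom.ker (constantCoeff : MvPolynomial σ k →+* k) :=
  Ideal.ext fun f => mem_irrelevant_iff' f

instance isMaximal_irrelevant :
    (HomogeneousIdeal.irrelevant (homogeneousSubmodule σ k)).toIdeal.IsMaximal := by
  rw [irrelevant_eq_ker]
  exact RingHom.ker_isMaximal_of_surjective _ (fun a => ⟨C a, by simp⟩)

theorem ringKrullDim_quotient_irrelevant :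
    ringKrullDim (MvPolynomial σ k ⧸ (HomogeneousIdeal.irrelevant (homogeneousSubmodule σ k)).toIdeal)
      = 0 := by
  let _ := Ideal.Quotient.field (HomogeneousIdeal.irrelevant (homogeneousSubmodule σ k)).toIdeal
  exact ringKrullDim_eq_zero_of_field _

/-- A proper homogeneous ideal is contained in the irrelevant ideal. -/
theorem le_irrelevant {I : Ideal (MvPolynomial σ k)} (hI : I.IsHomogeneous (homogeneousSubmodule σ k))
    (hI' : I ≠ ⊤) : I ≤ (HomogeneousIdeal.irrelevant (homogeneousSubmodule σ k)).toIdeal := by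
  intro f hf
  rw [mem_irrelevant_iff']
  by_contra h
  have h1 := hI 0 hf
  have h2 : (DirectSum.decompose (homogeneousSubmodule σ k) f 0 : MvPolynomial σ k) =
      C (constantCoeff f) := by
    rw [constantCoeff_eq, ← homogeneousComponent_zero]
    exact MvPolynomial.decomposition.decompose'_apply f 0
  rw [h2] at h1
  refine hI' (Ideal.eq_top_of_isUnit_mem _ h1 ?_)
  exact (IsUnit.mk0 _ h).map C

/-- A prime minimal over a homogeneous ideal is homogeneous. -/
theorem isHomogeneous_of_minimal {I M : Ideal (MvPolynomial σ k)}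
    (hI : I.IsHomogeneous (homogeneousSubmodule σ k)) (hM : M ∈ I.minimalPrimes) :
    M.IsHomogeneous (homogeneousSubmodule σ k) := by
  rw [Ideal.IsHomogeneous.iff_eq]
  have hMp : M.IsPrime := hM.1.1
  refine le_antisymm (Ideal.toIdeal_homogeneousCore_le _ _) ?_
  refine hM.2 ⟨Ideal.IsPrime.homogeneousCore hMp, ?_⟩ (Ideal.toIdeal_homogeneousCore_le _ _)
  rw [← hI.toIdeal_homogeneousCore_eq_self]
  exact Ideal.homogeneousCore_mono _ hM.1.2

/-- The point of `Proj` of a homogeneous prime `M` with `dim S / M ≥ 1`. -/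
noncomputable def mkPt (M : Ideal (MvPolynomial σ k)) (hM : M.IsPrime)
    (hh : M.IsHomogeneous (homogeneousSubmodule σ k)) (hd : 1 ≤ ringKrullDim (MvPolynomial σ k ⧸ M)) :
    ProjectiveSpectrum (homogeneousSubmodule σ k) where
  asHomogeneousIdeal := ⟨M, hh⟩
  isPrime := hM
  not_irrelevant_le h := by
    have h1 : (HomogeneousIdeal.irrelevant (homogeneousSubmodule σ k)).toIdeal ≤ M := h
    have h2 : M = (HomogeneousIdeal.irrelevant (homogeneousSubmodule σ k)).toIdeal :=
      le_antisymm (le_irrelevant hh hM.ne_top) h1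
    rw [h2, ringKrullDim_quotient_irrelevant] at hd
    exact absurd hd (by simp)

/-- `dim R / p` is the coheight of `p`. -/
theorem ringKrullDim_quotient_eq_coheight {R : Type u} [CommRing R] (p : PrimeSpectrum R) :
    ringKrullDim (R ⧸ p.asIdeal) = (Order.coheight p : WithBot ℕ∞) := by
  rw [ringKrullDim_quotient, Order.coheight_eq_krullDim_Ici]
  rfl

/-- the point of the spectrum below a point of `Proj`. -/
noncomputable def toPrime (z : ProjectiveSpectrum (homogeneousSubmodule σ k)) :
    PrimeSpectrum (MvPolynomial σ k) := ⟨z.asHomogeneousIdeal.toIdeal, z.isPrime⟩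

theorem toPrime_strictMono : StrictMono (toPrime (k := k) (σ := σ)) := fun _ _ h => h

theorem toPrime_lt (z : ProjectiveSpectrum (homogeneousSubmodule σ k)) :
    toPrime z < ⟨(HomogeneousIdeal.irrelevant (homogeneousSubmodule σ k)).toIdeal,
      isMaximal_irrelevant.isPrime⟩ := by
  refine lt_of_le_not_ge ?_ fun h => z.not_irrelevant_le h
  exact le_irrelevant z.asHomogeneousIdeal.isHomogeneous z.isPrime.ne_top

variable [Finite σ]

theorem coheight_ne_top (p : PrimeSpectrum (MvPolynomial σ k)) : Order.coheight p ≠ ⊤ := by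
  intro h
  obtain ⟨d, hd, -⟩ := Groth.Agent.CalgC.DimFT.exists_dim k (MvPolynomial σ k ⧸ p.asIdeal)
  rw [ringKrullDim_quotient_eq_coheight, h] at hd
  have h1 : (⊤ : ℕ∞) = (d : ℕ∞) := by exact_mod_cast hd
  exact absurd h1.symm (ENat.coe_ne_top d)

/-- `dim S / P_z ≥ coheight z + 1`. -/
theorem coheight_add_one_le (z : ProjectiveSpectrum (homogeneousSubmodule σ k)) :
    ((Order.coheight z : WithBot ℕ∞) + 1) ≤
      ringKrullDim (MvPolynomial σ k ⧸ z.asHomogeneousIdeal.toIdeal) := by
  rw [show ringKrullDim (MvPolynomial σ k ⧸ z.asHomogeneousIdeal.toIdeal) = _ from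
    ringKrullDim_quotient_eq_coheight (toPrime z)]
  have h1 : Order.coheight z ≤ Order.coheight (toPrime z) :=
    Order.coheight_le_coheight_apply_of_strictMono _ toPrime_strictMono z
  have h2 : Order.coheight z ≠ ⊤ := ne_top_of_le_ne_top (coheight_ne_top _) h1
  obtain ⟨c, hc⟩ := ENat.ne_top_iff_exists.mp h2
  obtain ⟨l, hl, hlc⟩ := Order.exists_series_of_le_coheight z hc.le
  let l' := (l.map toPrime toPrime_strictMono).snoc
    (⟨(HomogeneousIdeal.irrelevant (homogeneousSubmodule σ k)).toIdeal,
      isMaximal_irrelevant.isPrime⟩ : PrimeSpectrum (MvPolynomial σ k)) (by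
        rw [LTSeries.last_map]
        exact toPrime_lt _)
  have h3 : l'.head = toPrime z := by
    simp [l', hl]
  have h4 : l'.length = c + 1 := by
    simp [l', hlc]
  have h5 := Order.length_le_coheight (x := toPrime z) (p := l') h3.ge
  rw [h4] at h5
  rw [← hc]
  exact_mod_cast h5

/-- `dim S / P_z ≤ coheight z + 1`. -/
theorem le_coheight (d : ℕ) (z : ProjectiveSpectrum (homogeneousSubmodule σ k))
    (hd : ((d + 1 : ℕ) : WithBot ℕ∞) ≤
      ringKrullDim (MvPolynomial σ k ⧸ z.asHomogeneousIdeal.toIdeal)) :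
    (d : ℕ∞) ≤ Order.coheight z := by
  induction d generalizing z with
  | zero => simp
  | succ d ih =>
    have hP := z.isPrime
    set P := z.asHomogeneousIdeal.toIdeal with hPdef
    -- a variable outside of `P`
    obtain ⟨i, hi⟩ : ∃ i, (X i : MvPolynomial σ k) ∉ P := by
      by_contra hcon
      push Not at hcon
      refine z.not_irrelevant_le ?_
      change (HomogeneousIdeal.irrelevant (homogeneousSubmodule σ k)).toIdeal ≤ P
      rw [irrelevant_eq_ker]
      intro f hf
      have h1 := K423.DimInter.mem_span_of_aeval_eq_zero (A := k) (σ := σ) (fun _ => 0) f (by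
        rw [MvPolynomial.aeval_zero']
        simpa [RingHom.mem_ker] using hf)
      refine (Ideal.span_le.2 ?_) h1
      rintro _ ⟨i, rfl⟩
      simpa using hcon i
    have hle : P ⊔ Ideal.span {X i} ≤
        (HomogeneousIdeal.irrelevant (homogeneousSubmodule σ k)).toIdeal := by
      refine sup_le (le_irrelevant z.asHomogeneousIdeal.isHomogeneous hP.ne_top) ?_
      rw [Ideal.span_le, Set.singleton_subset_iff]
      exact (mem_irrelevant_iff' _).2 (by simp)
    obtain ⟨M, hM, hMle⟩ := Ideal.exists_minimalPrimes_le hle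
    have hMp : M.IsPrime := hM.1.1
    have hPM : P ≤ M := le_sup_left.trans hM.1.2
    have hXM : X i ∈ M := hM.1.2 (Ideal.mem_sup_right (Ideal.subset_span rfl))
    have hMh : M.IsHomogeneous (homogeneousSubmodule σ k) := by
      refine isHomogeneous_of_minimal (Ideal.IsHomogeneous.sup z.asHomogeneousIdeal.isHomogeneous ?_) hM
      refine Ideal.homogeneous_span _ _ ?_
      rintro _ rfl
      exact ⟨1, (mem_homogeneousSubmodule _ _).2 (isHomogeneous_X _ _)⟩
    -- the height of `M / P`
    let N : Ideal (MvPolynomial σ k ⧸ P) := M.map (Ideal.Quotient.mk P)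
    have hNc : N.comap (Ideal.Quotient.mk P) = M := K423.DimInter.comap_map_mk hPM
    have hNp : N.IsPrime :=
      Ideal.map_isPrime_of_surjective Ideal.Quotient.mk_surjective (by rw [Ideal.mk_ker]; exact hPM)
    have hNmin : N ∈ (Ideal.span {Ideal.Quotient.mk P (X i)}).minimalPrimes := by
      refine ⟨⟨hNp, ?_⟩, ?_⟩
      · rw [Ideal.span_le, Set.singleton_subset_iff]
        exact Ideal.mem_map_of_mem _ hXM
      · rintro Q ⟨hQ, hQs⟩ hQN
        refine Ideal.map_le_iff_le_comap.2 ?_
        refine hM.2 ⟨Ideal.IsPrime.comap _, sup_le ?_ ?_⟩ ?_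
        · intro x hx
          rw [Ideal.mem_comap, Ideal.Quotient.eq_zero_iff_mem.mpr hx]
          exact Q.zero_mem
        · rw [Ideal.span_le, Set.singleton_subset_iff]
          exact hQs (Ideal.subset_span rfl)
        · rw [← hNc]
          exact Ideal.comap_mono hQN
    have hN1 : N.height ≤ 1 := Ideal.height_le_one_of_isPrincipal_of_mem_minimalPrimes _ _ hNmin
    have h3 := Groth.Agent.CalgC.DimFT.height_add_ringKrullDim_quotient k (MvPolynomial σ k ⧸ P) N
    have h4 : ringKrullDim ((MvPolynomial σ k ⧸ P) ⧸ N) = ringKrullDim (MvPolynomial σ k ⧸ M) :=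
      ringKrullDim_eq_of_ringEquiv (DoubleQuot.quotQuotEquivQuotOfLE hPM)
    have h5 : ((d + 1 : ℕ) : WithBot ℕ∞) ≤ ringKrullDim (MvPolynomial σ k ⧸ M) := by
      rw [← h3, h4] at hd
      obtain ⟨e, he, -⟩ := Groth.Agent.CalgC.DimFT.exists_dim k (MvPolynomial σ k ⧸ M)
      obtain ⟨h, hh⟩ := ENat.ne_top_iff_exists.mp (ne_top_of_le_ne_top ENat.one_ne_top hN1)
      rw [← hh] at hN1 hd
      rw [he] at hd ⊢
      have e1 : h ≤ 1 := by exact_mod_cast hN1
      have e2 : d + 1 + 1 ≤ h + e := by exact_mod_cast hd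
      have e3 : d + 1 ≤ e := by omega
      exact_mod_cast e3
    have hd1 : (1 : WithBot ℕ∞) ≤ ringKrullDim (MvPolynomial σ k ⧸ M) := by
      refine le_trans ?_ h5
      have : 1 ≤ d + 1 := by omega
      exact_mod_cast this
    let z' : ProjectiveSpectrum (homogeneousSubmodule σ k) := mkPt M hMp hMh hd1
    have hzz' : z < z' := by
      refine lt_of_le_not_ge (show P ≤ M from hPM) fun h => hi ?_
      exact (show M ≤ P from h) hXM
    have h6 : (d : ℕ∞) ≤ Order.coheight z' := ih z' h5
    have h7 := Order.coheight_add_one_le hzz'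
    refine le_trans ?_ h7
    push_cast
    exact add_le_add h6 le_rfl

end K423.ProjChain
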